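import Groth.Agent.Lib.MultLift.KernelType

/-!
Kernels of homomorphisms into a diagonalisable group whose image subgroup is constant on the base.
-/

universe u

set_option linter.style.haveILetI false
set_option maxSynthPendingDepth 3

open TensorProduct MonoidAlgebra

namespace GrothLib.MultKernelGenlead

open GrothLib.MultLocal GrothLib.MultLift

section

variable {R : Type u} [CommRing R] {M : Type u} [CommGroup M]
variable {C : Type u} [CommRing C] [HopfAlgebra R C] (θ : C →ₐc[R] MonoidAlgebra R M)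

/-- The kernel of a homomorphism into a diagonalisable group with coefficients supported on the image subgroup. -/
theorem span_image_aug_of_supp (hsupp : ∀ (c : C) (m : M), m ∉ imageSubgroup θ → (θ c).coeff m = 0) :
    Ideal.map (θ : C →ₐ[R] MonoidAlgebra R M) (RingHom.ker (Bialgebra.counitAlgHom R C)) =
      RingHom.ker (mapDomainAlgHom R R (QuotientGroup.mk' (imageSubgroup θ))) := by
  classical
  let Γ := imageSubgroup θ
  let q := mapDomainAlgHom R R (QuotientGroup.mk' Γ)
  let J := Ideal.map (θ : C →ₐ[R] MonoidAlgebra R M) (RingHom.ker (Bialgebra.counitAlgHom R C))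
  refine le_antisymm ?_ fun z hz => ?_
  · refine Ideal.map_le_iff_le_comap.mpr fun c hc => ?_
    rw [Ideal.mem_comap, RingHom.mem_ker]
    have hq : ∀ y : MonoidAlgebra R M, (∀ m, m ∉ Γ → y.coeff m = 0) → q y = Coalgebra.counit (R := R) y • (1 : MonoidAlgebra R (M ⧸ Γ)) := by
      intro y hy
      conv_lhs => rw [← MonoidAlgebra.sum_coeff_single y]
      conv_rhs => rw [← MonoidAlgebra.sum_coeff_single y]
      rw [Finsupp.sum, map_sum, map_sum, Finset.sum_smul]
      refine Finset.sum_congr rfl fun m hm => ?_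
      have hmΓ : m ∈ Γ := by_contra fun h => Finsupp.mem_support_iff.mp hm (hy m h)
      simp [q, (QuotientGroup.eq_one_iff m).mpr hmΓ, MonoidAlgebra.one_def, smul_single]
    change q (θ c) = 0
    rw [hq _ fun m hm => hsupp c _ hm, CoalgHomClass.counit_comp_apply,
      show Coalgebra.counit (R := R) c = 0 from (RingHom.mem_ker.mp hc :), zero_smul]
  · let π := Ideal.Quotient.mkₐ R J
    let χ : M →* MonoidAlgebra R M ⧸ J :=
      ((π : MonoidAlgebra R M →+* MonoidAlgebra R M ⧸ J) : MonoidAlgebra R M →* _).comp (MonoidAlgebra.of R M)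
    have hχ : Γ ≤ χ.ker := by
      rintro γ ⟨c, hc⟩
      rw [MonoidHom.mem_ker]
      change Ideal.Quotient.mk J (single γ 1) = 1
      rw [← map_one (Ideal.Quotient.mk J), Ideal.Quotient.eq]
      have h1 : Coalgebra.counit (R := R) c = 1 := by
        have h := CoalgHomClass.counit_comp_apply θ c
        rw [hc] at h
        simpa using h.symm
      have h2 : θ (c - 1) ∈ J := Ideal.mem_map_of_mem (θ : C →ₐ[R] MonoidAlgebra R M) (RingHom.mem_ker.mpr (by
        change Coalgebra.counit (R := R) (c - 1) = 0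
        rw [map_sub, h1, Bialgebra.counit_one, sub_self]))
      rwa [map_sub, hc, map_one] at h2
    let Ψ : MonoidAlgebra R (M ⧸ Γ) →ₐ[R] MonoidAlgebra R M ⧸ J :=
      MonoidAlgebra.lift R _ (M ⧸ Γ) (QuotientGroup.lift Γ χ hχ)
    have hΨ : Ψ.comp q = π := MonoidAlgebra.algHom_ext' (MonoidHom.ext fun m => by simp [Ψ, q, χ, π]) (Subsingleton.elim _ _)
    refine Ideal.Quotient.eq_zero_iff_mem.mp ?_
    change π z = 0
    rw [← hΨ, AlgHom.comp_apply, show q z = 0 from RingHom.mem_ker.mp hz, map_zero]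

end

variable {R : Type u} [CommRing R] {A : Type u} [CommRing A] [HopfAlgebra R A]
variable {C : Type u} [CommRing C] [HopfAlgebra R C]

/-- The homomorphism read in a chart. -/
noncomputable def toAlg (φ : C →ₐc[R] A) {T : Type u} [CommRing T] [Algebra R T] {M : Type u} [CommGroup M]
    {g : M →* GroupLike T (T ⊗[R] A)} (hg : IsFrame g) : T ⊗[R] C →ₐc[T] MonoidAlgebra T M :=
  (hg.equiv.symm : T ⊗[R] A →ₐc[T] MonoidAlgebra T M).comp (Bialgebra.TensorProduct.map (BialgHom.id T T) φ)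

theorem toAlg_tmul (φ : C →ₐc[R] A) {T : Type u} [CommRing T] [Algebra R T] {M : Type u} [CommGroup M]
    {g : M →* GroupLike T (T ⊗[R] A)} (hg : IsFrame g) (t : T) (c : C) :
    toAlg φ hg (t ⊗ₜ c) = hg.equiv.symm (t ⊗ₜ φ c) := rfl

/-- Over a chart with constant image the kernel is diagonalisable. -/
theorem exists_frame_kernel_supp (φ : C →ₐc[R] A) (J : Ideal A) [J.IsHopfIdeal R]
    (hJ : J = Ideal.map φ (RingHom.ker (Bialgebra.counitAlgHom R C))) {T : Type u} [CommRing T]
    [Algebra R T] {M : Type u} [CommGroup M] {g : M →* GroupLike T (T ⊗[R] A)} (hg : IsFrame g)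
    (hsupp : ∀ (c : T ⊗[R] C) (m : M), m ∉ imageSubgroup (toAlg φ hg) → (toAlg φ hg c).coeff m = 0) :
    ∃ (Q : Type u) (_ : CommGroup Q) (g' : Q →* GroupLike T (T ⊗[R] (A ⧸ J))), IsFrame g' := by
  let φT : T ⊗[R] C →ₐc[T] T ⊗[R] A := Bialgebra.TensorProduct.map (BialgHom.id T T) φ
  let θ : T ⊗[R] C →ₐc[T] MonoidAlgebra T M := toAlg φ hg
  let Γ := imageSubgroup θ
  let p : T ⊗[R] A →ₐc[T] MonoidAlgebra T (M ⧸ Γ) :=
    (mapDomainBialgHom T (QuotientGroup.mk' Γ)).comp (hg.equiv.symm : T ⊗[R] A →ₐc[T] MonoidAlgebra T M)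
  let π := Bialgebra.Quotient.mkBialgHom (R := R) J
  let P : T ⊗[R] A →ₐc[T] T ⊗[R] (A ⧸ J) := projT π T
  have hPs : Function.Surjective P := fun y => by
    induction y using TensorProduct.induction_on with
    | zero => exact ⟨0, map_zero _⟩
    | add a b ha hb =>
      obtain ⟨a', rfl⟩ := ha
      obtain ⟨b', rfl⟩ := hb
      exact ⟨a' + b', map_add _ _ _⟩
    | tmul t c =>
      obtain ⟨c, rfl⟩ := Ideal.Quotient.mk_surjective c
      exact ⟨t ⊗ₜ c, rfl⟩
  have hps : Function.Surjective p := fun y => by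
    induction y using MonoidAlgebra.induction_linear with
    | zero => exact ⟨0, map_zero _⟩
    | add a b ha hb =>
      obtain ⟨a', rfl⟩ := ha
      obtain ⟨b', rfl⟩ := hb
      exact ⟨a' + b', map_add _ _ _⟩
    | single q r =>
      obtain ⟨m, rfl⟩ := QuotientGroup.mk_surjective q
      refine ⟨hg.equiv (single m r), ?_⟩
      change mapDomainBialgHom T _ (hg.equiv.symm (hg.equiv (single m r))) = _
      rw [BialgEquiv.symm_apply_apply, mapDomainBialgHom_single]
      rfl
  have hker : ∀ y, P y = 0 ↔ p y = 0 := by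
    intro y
    have h1 : RingHom.ker (P : T ⊗[R] A →ₐ[T] T ⊗[R] (A ⧸ J)) =
        Ideal.map (Algebra.TensorProduct.includeRight : A →ₐ[R] T ⊗[R] A) J := by
      have h := Algebra.TensorProduct.lTensor_ker (A := T) (Ideal.Quotient.mkₐ R J) (Ideal.Quotient.mkₐ_surjective R _)
      rw [show RingHom.ker (Ideal.Quotient.mkₐ R J) = J from Ideal.mk_ker] at h
      exact h
    have h2 : Ideal.map (Algebra.TensorProduct.includeRight : A →ₐ[R] T ⊗[R] A) J =
        Ideal.map (φT : T ⊗[R] C →ₐ[T] T ⊗[R] A) (RingHom.ker (Bialgebra.counitAlgHom T (T ⊗[R] C))) := by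
      have hc : ((φT : T ⊗[R] C →ₐ[T] T ⊗[R] A) : T ⊗[R] C →+* T ⊗[R] A).comp
          ((Algebra.TensorProduct.includeRight : C →ₐ[R] T ⊗[R] C) : C →+* T ⊗[R] C) =
          ((Algebra.TensorProduct.includeRight : A →ₐ[R] T ⊗[R] A) : A →+* T ⊗[R] A).comp ((φ : C →ₐ[R] A) : C →+* A) :=
        RingHom.ext fun c => rfl
      rw [aug_baseChange, hJ]
      change Ideal.map ((Algebra.TensorProduct.includeRight : A →ₐ[R] T ⊗[R] A) : A →+* T ⊗[R] A)
        (Ideal.map ((φ : C →ₐ[R] A) : C →+* A) _) = Ideal.map ((φT : T ⊗[R] C →ₐ[T] T ⊗[R] A) : T ⊗[R] C →+* T ⊗[R] A)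
        (Ideal.map ((Algebra.TensorProduct.includeRight : C →ₐ[R] T ⊗[R] C) : C →+* T ⊗[R] C) _)
      rw [Ideal.map_map, Ideal.map_map, hc]
    have hs := span_image_aug_of_supp θ hsupp
    have h3 : Ideal.map (θ : T ⊗[R] C →ₐ[T] MonoidAlgebra T M) (RingHom.ker (Bialgebra.counitAlgHom T (T ⊗[R] C))) =
        Ideal.map (hg.equiv.symm.toAlgEquiv : T ⊗[R] A →+* MonoidAlgebra T M)
          (Ideal.map (φT : T ⊗[R] C →ₐ[T] T ⊗[R] A) (RingHom.ker (Bialgebra.counitAlgHom T (T ⊗[R] C)))) := by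
      change _ = Ideal.map _ (Ideal.map ((φT : T ⊗[R] C →ₐ[T] T ⊗[R] A) : T ⊗[R] C →+* T ⊗[R] A) _)
      rw [Ideal.map_map]
      rfl
    rw [hs, ← h2, ← h1] at h3
    constructor
    · intro hy
      have h4 : hg.equiv.symm y ∈ RingHom.ker (mapDomainAlgHom T T (QuotientGroup.mk' Γ)) := by
        rw [h3]
        exact Ideal.mem_map_of_mem _ (RingHom.mem_ker.mpr hy)
      exact RingHom.mem_ker.mp h4
    · intro hy
      have h4 : hg.equiv.symm y ∈ RingHom.ker (mapDomainAlgHom T T (QuotientGroup.mk' Γ)) := RingHom.mem_ker.mpr hy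
      rw [h3] at h4
      obtain ⟨x, hx, hxy⟩ := (Ideal.mem_map_iff_of_surjective (hg.equiv.symm.toAlgEquiv : T ⊗[R] A →+* MonoidAlgebra T M)
        hg.equiv.symm.toAlgEquiv.surjective).mp h4
      have hxy' : x = y := hg.equiv.symm.toAlgEquiv.injective hxy
      exact RingHom.mem_ker.mp (hxy' ▸ hx)
  obtain ⟨u, hu⟩ := exists_factor_surjective P hPs p fun y hy => (hker y).mp hy
  obtain ⟨v, hv⟩ := exists_factor_surjective p hps P fun y hy => (hker y).mpr hy
  let e : T ⊗[R] (A ⧸ J) ≃ₐc[T] MonoidAlgebra T (M ⧸ Γ) := BialgEquiv.ofBialgHom u v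
    (BialgHom.ext fun z => by
      obtain ⟨y, rfl⟩ := hps z
      change u (v (p y)) = p y
      rw [hv, hu])
    (BialgHom.ext fun z => by
      obtain ⟨y, rfl⟩ := hPs z
      change v (u (P y)) = P y
      rw [hu, hv])
  exact ⟨M ⧸ Γ, inferInstance, exists_frame_of_equiv e⟩

end GrothLib.MultKernelGenlead
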