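import Groth.Agent.Lib.MultKernelGenlead.Basic
import Groth.Agent.Lib.MultLocal.Glue
import Groth.Agent.Lib.MultLocal.NilLift
import Mathlib.RingTheory.RingHom.Flat

/-!
The kernel of a homomorphism from an arbitrary group of multiplicative type to a group of finite type.
-/

universe u

set_option linter.style.haveILetI false
set_option maxSynthPendingDepth 3

open TensorProduct MonoidAlgebra

namespace GrothLib.MultKernelGenlead

open GrothLib.MultLocal GrothLib.MultLift

variable {R : Type u} [CommRing R] {A : Type u} [CommRing A] [HopfAlgebra R A]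
variable {C : Type u} [CommRing C] [HopfAlgebra R C]

theorem toAlg_map (φ : C →ₐc[R] A) {T T' : Type u} [CommRing T] [CommRing T'] [Algebra R T] [Algebra R T']
    {M : Type u} [CommGroup M] {g : M →* GroupLike T (T ⊗[R] A)} (hg : IsFrame g) (f : T →ₐ[R] T') (x : T ⊗[R] C) :
    toAlg φ (hg.map f) (coefMap C f x) = mapRingHom M (f : T →+* T') (toAlg φ hg x) := by
  induction x using TensorProduct.induction_on with
  | zero => simp
  | add a b ha hb => simp only [map_add, ha, hb]
  | tmul t c =>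
    rw [coefMap_tmul, toAlg_tmul, toAlg_tmul]
    apply (hg.map f).1
    rw [← (hg.map f).equiv_apply, BialgEquiv.apply_symm_apply, glHom_glMap, ← hg.equiv_apply,
      BialgEquiv.apply_symm_apply, coefMap_tmul]

theorem coeff_toAlg_one_tmul (φ : C →ₐc[R] A) {T T' : Type u} [CommRing T] [CommRing T'] [Algebra R T] [Algebra R T']
    {M : Type u} [CommGroup M] {g : M →* GroupLike T (T ⊗[R] A)} (hg : IsFrame g) (f : T →ₐ[R] T') (c : C) (m : M) :
    (toAlg φ (hg.map f) ((1 : T') ⊗ₜ c)).coeff m = f ((toAlg φ hg ((1 : T) ⊗ₜ c)).coeff m) := by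
  have h := toAlg_map φ hg f ((1 : T) ⊗ₜ c)
  rw [coefMap_tmul, map_one] at h
  rw [h]
  simp

/-- The image subgroup of a chart is constant near every point. -/
theorem exists_nbhd_supp [Algebra.FiniteType R C] (φ : C →ₐc[R] A) {T : Type u} [CommRing T] [Algebra R T]
    {M : Type u} [CommGroup M] {g : M →* GroupLike T (T ⊗[R] A)} (hg : IsFrame g) (z : PrimeSpectrum T) :
    ∃ s : T, s ∉ z.asIdeal ∧
      ∀ (c : Localization.Away s ⊗[R] C) (m : M),
        m ∉ imageSubgroup (toAlg φ (hg.map (IsScalarTower.toAlgHom R T (Localization.Away s)))) →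
        (toAlg φ (hg.map (IsScalarTower.toAlgHom R T (Localization.Away s))) c).coeff m = 0 := by
  classical
  obtain ⟨S, hS⟩ := Algebra.FiniteType.out (R := R) (A := C)
  let a : C → M → T := fun c m => (toAlg φ hg ((1 : T) ⊗ₜ c)).coeff m
  let P := z.asIdeal
  let L := Localization.AtPrime P
  let fP : T →ₐ[R] L := IsScalarTower.toAlgHom R T L
  have key : ∀ (c : C) (m : M), ∃ s : T, s ∉ P ∧
      (s * a c m = 0 ∨ ∃ (c' : C) (t : T), s = t * a c' m) := by
    intro c m
    by_cases h : ∃ c', a c' m ∉ P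
    · obtain ⟨c', hc'⟩ := h
      exact ⟨a c' m, hc', Or.inr ⟨c', 1, (_root_.one_mul _).symm⟩⟩
    · push Not at h
      let θ := toAlg φ (hg.map fP)
      have hm : m ∉ imageSubgroup θ := by
        rintro ⟨x, hx⟩
        have hmem : ∀ y, (θ y).coeff m ∈ IsLocalRing.maximalIdeal L := fun y => by
          induction y using TensorProduct.induction_on with
          | zero => simp
          | add u v hu hv => rw [map_add, coeff_add, Finsupp.add_apply]; exact add_mem hu hv
          | tmul t c' =>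
            rw [show t ⊗ₜ[R] c' = t • ((1 : L) ⊗ₜ[R] c') by rw [smul_tmul', smul_eq_mul, _root_.mul_one], map_smul,
              coeff_smul, Finsupp.smul_apply, smul_eq_mul, coeff_toAlg_one_tmul φ hg fP]
            refine Ideal.mul_mem_left _ _ ?_
            exact (IsLocalization.AtPrime.to_map_mem_maximal_iff L P _).mpr (h c')
        have h1 := hmem x
        rw [hx, coeff_single, Finsupp.single_eq_same] at h1
        exact (IsLocalRing.maximalIdeal.isMaximal L).ne_top ((Ideal.eq_top_iff_one _).mpr h1)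
      have h0 : algebraMap T L (a c m) = algebraMap T L 0 := by
        rw [map_zero]
        have := coeff_eq_zero_of_notMem θ ((1 : L) ⊗ₜ[R] c) hm
        rwa [coeff_toAlg_one_tmul] at this
      obtain ⟨⟨s, hs⟩, hsa⟩ := IsLocalization.exists_of_eq (M := P.primeCompl) h0
      exact ⟨s, hs, Or.inl (by simpa using hsa)⟩
  choose sc hscP hsc using key
  let F : Finset (C × M) := S.biUnion fun c => ((toAlg φ hg ((1 : T) ⊗ₜ c)).coeff.support).image fun m => (c, m)
  let s := ∏ x ∈ F, sc x.1 x.2
  have hs : s ∉ P := fun h => by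
    obtain ⟨x, -, hx⟩ := (Ideal.IsPrime.prod_mem_iff (p := P)).mp h
    exact hscP _ _ hx
  refine ⟨s, hs, ?_⟩
  let T' := Localization.Away s
  let f : T →ₐ[R] T' := IsScalarTower.toAlgHom R T T'
  let θ := toAlg φ (hg.map f)
  have hgen : ∀ c ∈ S, ∀ m, m ∉ imageSubgroup θ → (θ ((1 : T') ⊗ₜ c)).coeff m = 0 := by
    intro c hc m hm
    rw [coeff_toAlg_one_tmul]
    change f (a c m) = 0
    by_cases h0 : a c m = 0
    · rw [h0, map_zero]
    · have hu : IsUnit (f (sc c m)) := by
        have hmem : (c, m) ∈ F :=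
          Finset.mem_biUnion.mpr ⟨c, hc, Finset.mem_image.mpr ⟨m, Finsupp.mem_support_iff.mpr h0, rfl⟩⟩
        refine isUnit_of_dvd_unit (map_dvd f (Finset.dvd_prod_of_mem (fun x : C × M => sc x.1 x.2) hmem)) ?_
        exact IsLocalization.Away.algebraMap_isUnit s
      rcases hsc c m with h | ⟨c', t, h⟩
      · apply hu.mul_right_eq_zero.mp
        rw [← map_mul, h, map_zero]
      · rw [h, map_mul, IsUnit.mul_iff] at hu
        refine absurd (mem_imageSubgroup_of_isUnit θ (c := (1 : T') ⊗ₜ c') ?_) hm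
        rw [coeff_toAlg_one_tmul]
        exact hu.2
  intro c m hm
  induction c using TensorProduct.induction_on generalizing m with
  | zero => simp
  | add u v hu hv => rw [map_add, coeff_add, Finsupp.add_apply, hu m hm, hv m hm, add_zero]
  | tmul t c =>
    rw [show t ⊗ₜ[R] c = t • ((1 : T') ⊗ₜ[R] c) by rw [smul_tmul', smul_eq_mul, _root_.mul_one], map_smul,
      coeff_smul, Finsupp.smul_apply, smul_eq_mul]
    suffices h : ∀ k, k ∉ imageSubgroup θ → (θ ((1 : T') ⊗ₜ[R] c)).coeff k = 0 by rw [h m hm, MulZeroClass.mul_zero]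
    have hx : c ∈ Algebra.adjoin R (S : Set C) := hS ▸ Algebra.mem_top
    clear hm
    induction hx using Algebra.adjoin_induction with
    | mem x hx => exact hgen x hx
    | algebraMap r =>
      intro k hk
      have hk1 : k ≠ 1 := fun h => hk (h ▸ one_mem _)
      have h1 : (1 : T') ⊗ₜ[R] algebraMap R C r = algebraMap T' (T' ⊗[R] C) (algebraMap R T' r) := by
        rw [Algebra.TensorProduct.algebraMap_apply, Algebra.algebraMap_self, RingHom.id_apply,
          Algebra.algebraMap_eq_smul_one (A := C), tmul_smul, smul_tmul', ← Algebra.algebraMap_eq_smul_one]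
      rw [h1, show θ (algebraMap T' _ (algebraMap R T' r)) = algebraMap T' _ (algebraMap R T' r) from
        (θ : T' ⊗[R] C →ₐ[T'] MonoidAlgebra T' M).commutes _]
      simp [MonoidAlgebra.coe_algebraMap, Finsupp.single_eq_of_ne' (Ne.symm hk1)]
    | add x y _ _ hx hy =>
      intro k hk
      rw [tmul_add, map_add, coeff_add, Finsupp.add_apply, hx k hk, hy k hk, add_zero]
    | mul x y _ _ hx hy =>
      intro k hk
      rw [show (1 : T') ⊗ₜ[R] (x * y) = ((1 : T') ⊗ₜ[R] x) * ((1 : T') ⊗ₜ[R] y) by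
        rw [Algebra.TensorProduct.tmul_mul_tmul, _root_.mul_one], map_mul, MonoidAlgebra.coeff_mul]
      simp only [Finsupp.sum, Finsupp.coe_finset_sum, Finset.sum_apply]
      refine Finset.sum_eq_zero fun a _ => Finset.sum_eq_zero fun b _ => ?_
      split_ifs with hab
      · by_cases ha : a ∈ imageSubgroup θ
        · rw [hy b fun hb => hk (hab ▸ mul_mem ha hb), MulZeroClass.mul_zero]
        · rw [hx a ha, MulZeroClass.zero_mul]
      · rfl

/-- Every point of a chart has a neighbourhood over which the kernel has a frame. -/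
theorem exists_frame_kernel_nbhd [Algebra.FiniteType R C] (φ : C →ₐc[R] A) (J : Ideal A) [J.IsHopfIdeal R]
    (hJ : J = Ideal.map φ (RingHom.ker (Bialgebra.counitAlgHom R C))) {T : Type u} [CommRing T] [Algebra R T]
    {M : Type u} [CommGroup M] {g : M →* GroupLike T (T ⊗[R] A)} (hg : IsFrame g) (z : PrimeSpectrum T) :
    ∃ (s : T) (Q : Type u) (_ : CommGroup Q) (g' : Q →* GroupLike (Localization.Away s) (Localization.Away s ⊗[R] (A ⧸ J))),
      s ∉ z.asIdeal ∧ IsFrame g' := by
  obtain ⟨s, hs, h⟩ := exists_nbhd_supp φ hg z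
  obtain ⟨Q, iQ, g', hg'⟩ := exists_frame_kernel_supp φ J hJ _ h
  exact ⟨s, Q, iQ, g', hs, hg'⟩

/-- Over a field the group of a frame is determined. -/
theorem nonempty_mulEquiv_of_frames {D : Type u} [CommRing D] [HopfAlgebra R D] {K : Type u} [Field K] [Algebra R K]
    {Q Q' : Type u} [CommGroup Q] [CommGroup Q'] {g : Q →* GroupLike K (K ⊗[R] D)} (hg : IsFrame g)
    {g' : Q' →* GroupLike K (K ⊗[R] D)} (hg' : IsFrame g') : Nonempty (Q ≃* Q') :=
  ⟨(MulEquiv.ofBijective g ⟨hg.injective, hg.surjective⟩).trans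
    (MulEquiv.ofBijective g' ⟨hg'.injective, hg'.surjective⟩).symm⟩

/-- Frames at two points with the same image in the base have isomorphic groups. -/
theorem nonempty_mulEquiv_of_points {D : Type u} [CommRing D] [HopfAlgebra R D]
    {S S' : Type u} [CommRing S] [CommRing S'] [Algebra R S] [Algebra R S'] (x : PrimeSpectrum S)
    (x' : PrimeSpectrum S') (hx : PrimeSpectrum.comap (algebraMap R S) x = PrimeSpectrum.comap (algebraMap R S') x')
    {Q Q' : Type u} [CommGroup Q] [CommGroup Q'] {g : Q →* GroupLike S (S ⊗[R] D)} (hg : IsFrame g)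
    {g' : Q' →* GroupLike S' (S' ⊗[R] D)} (hg' : IsFrame g') : Nonempty (Q ≃* Q') := by
  let K := x.asIdeal.ResidueField
  let K' := x'.asIdeal.ResidueField
  let k := (PrimeSpectrum.comap (algebraMap R S) x).asIdeal.ResidueField
  let i : k →+* K := Ideal.ResidueField.map _ x.asIdeal (algebraMap R S) rfl
  let i' : k →+* K' := Ideal.ResidueField.map _ x'.asIdeal (algebraMap R S') (congrArg PrimeSpectrum.asIdeal hx)
  letI : Algebra k K := i.toAlgebra
  letI : Algebra k K' := i'.toAlgebra
  have hi : ∀ r, algebraMap R K r = algebraMap k K (algebraMap R k r) := fun r => by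
    rw [RingHom.algebraMap_toAlgebra]
    exact (RingHom.congr_fun (IsScalarTower.algebraMap_eq R S K) r).trans (Ideal.ResidueField.map_algebraMap _ _ _ _ _).symm
  have hi' : ∀ r, algebraMap R K' r = algebraMap k K' (algebraMap R k r) := fun r => by
    rw [RingHom.algebraMap_toAlgebra]
    exact (RingHom.congr_fun (IsScalarTower.algebraMap_eq R S' K') r).trans (Ideal.ResidueField.map_algebraMap _ _ _ _ _).symm
  haveI : Nontrivial (K ⊗[k] K') := inferInstance
  obtain ⟨m, hm⟩ := Ideal.exists_maximal (K ⊗[k] K')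
  let Ω := (K ⊗[k] K') ⧸ m
  letI : Field Ω := Ideal.Quotient.field m
  let j : K →+* Ω := (Ideal.Quotient.mk m).comp Algebra.TensorProduct.includeLeftRingHom
  let j' : K' →+* Ω := (Ideal.Quotient.mk m).comp (Algebra.TensorProduct.includeRight : K' →ₐ[k] K ⊗[k] K').toRingHom
  letI : Algebra R Ω := (j.comp (algebraMap R K)).toAlgebra
  let f : S →ₐ[R] Ω := { j.comp (algebraMap S K) with
    commutes' := fun r => by
      show j (algebraMap S K (algebraMap R S r)) = j (algebraMap R K r)
      rw [← IsScalarTower.algebraMap_apply] }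
  let f' : S' →ₐ[R] Ω := { j'.comp (algebraMap S' K') with
    commutes' := fun r => by
      show j' (algebraMap S' K' (algebraMap R S' r)) = j (algebraMap R K r)
      rw [← IsScalarTower.algebraMap_apply, hi, hi']
      exact congrArg (Ideal.Quotient.mk m) ((Algebra.TensorProduct.includeRight : K' →ₐ[k] K ⊗[k] K').commutes _) }
  exact nonempty_mulEquiv_of_frames (hg.map f) (hg'.map f')

theorem isFrame_comp_mulEquiv {T : Type u} [CommRing T] {B : Type u} [CommRing B] [Bialgebra T B] {M M' : Type u}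
    [CommGroup M] [CommGroup M'] {g : M →* GroupLike T B} (hg : IsFrame g) (e : M' ≃* M) :
    IsFrame (g.comp e.toMonoidHom) := by
  have h : ∀ z, glHom (g.comp e.toMonoidHom) z = glHom g (mapDomainAlgHom T T e.toMonoidHom z) := fun z => by
    induction z using MonoidAlgebra.induction_linear with
    | zero => simp
    | add x y hx hy => simp only [map_add, hx, hy]
    | single m r => simp
  rw [IsFrame, show (glHom (g.comp e.toMonoidHom) : MonoidAlgebra T M' → B) = glHom g ∘ mapDomainAlgHom T T e.toMonoidHom from funext h]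
  refine hg.comp ?_
  refine Function.bijective_iff_has_inverse.mpr ⟨mapDomainAlgHom T T e.symm.toMonoidHom, fun z => ?_, fun z => ?_⟩ <;>
  · induction z using MonoidAlgebra.induction_linear with
    | zero => simp
    | add x y hx hy => simp only [map_add, hx, hy]
    | single m r => simp

/-- The kernel of a homomorphism from a group of multiplicative type to a group of finite type. -/
theorem isMultType_kernel [Algebra.FiniteType R C] (h : SGA3b.IsMultType R A) (φ : C →ₐc[R] A) (J : Ideal A)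
    [J.IsHopfIdeal R] (hJ : J = Ideal.map φ (RingHom.ker (Bialgebra.counitAlgHom R C))) :
    SGA3b.IsMultType R (A ⧸ J) := by
  classical
  obtain ⟨ι, _, T, _, _, M, _, hff, hT⟩ := exists_cover h
  haveI := hff
  choose g hg using hT
  choose s Q iQ g' hs hg' using fun x : Σ i, PrimeSpectrum (T i) => exists_frame_kernel_nbhd φ J hJ (hg x.1) x.2
  let π : (Σ i, PrimeSpectrum (T i)) → PrimeSpectrum R := fun x => PrimeSpectrum.comap (algebraMap R (T x.1)) x.2
  have hπ : π = PrimeSpectrum.comap (algebraMap R (∀ i, T i)) ∘ PrimeSpectrum.sigmaToPiHomeo T := by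
    funext x
    rw [Function.comp_apply, PrimeSpectrum.sigmaToPiHomeo_apply]
    exact congrArg (fun ψ => PrimeSpectrum.comap ψ x.2) (RingHom.ext fun _ => rfl)
  have hquot : Topology.IsQuotientMap π := by
    rw [hπ]
    exact (PrimeSpectrum.isQuotientMap_of_generalizingMap PrimeSpectrum.comap_surjective_of_faithfullyFlat
      ((RingHom.flat_algebraMap_iff.mpr inferInstance).generalizingMap_comap)).comp
      (PrimeSpectrum.sigmaToPiHomeo T).isQuotientMap
  -- isomorphism classes are constant near every point and on the fibres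
  have hlift : ∀ (i : ι) (y : PrimeSpectrum (T i)) (t : T i), t ∉ y.asIdeal →
      ∃ y' : PrimeSpectrum (Localization.Away t),
        PrimeSpectrum.comap (algebraMap R (Localization.Away t)) y' = π ⟨i, y⟩ := by
    intro i y t ht
    obtain ⟨y', hy'⟩ : y ∈ Set.range (PrimeSpectrum.comap (algebraMap (T i) (Localization.Away t))) := by
      rw [PrimeSpectrum.localization_away_comap_range (Localization.Away t) t]
      exact ht
    refine ⟨y', ?_⟩
    rw [IsScalarTower.algebraMap_eq R (T i) (Localization.Away t), PrimeSpectrum.comap_comp_apply, hy']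
  have heq : ∀ x₁ x₂, π x₁ = π x₂ → Nonempty (Q x₁ ≃* Q x₂) := fun x₁ x₂ h12 => by
    obtain ⟨a, ha⟩ := hlift x₁.1 x₁.2 _ (hs x₁)
    obtain ⟨b, hb⟩ := hlift x₂.1 x₂.2 _ (hs x₂)
    exact nonempty_mulEquiv_of_points a b (by rw [ha, hb]; exact h12) (hg' x₁) (hg' x₂)
  have hnear : ∀ (x : Σ i, PrimeSpectrum (T i)) (y : PrimeSpectrum (T x.1)), s x ∉ y.asIdeal →
      Nonempty (Q x ≃* Q ⟨x.1, y⟩) := fun x y hy => by
    obtain ⟨a, ha⟩ := hlift x.1 y _ hy
    obtain ⟨b, hb⟩ := hlift x.1 y _ (hs ⟨x.1, y⟩)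
    exact nonempty_mulEquiv_of_points a b (by rw [ha, hb]) (hg' x) (hg' ⟨x.1, y⟩)
  suffices hloc : ∀ p : PrimeSpectrum R, ∃ r : R, r ∉ p.asIdeal ∧
      SGA3b.IsMultTypeConst (Localization.Away r) (Localization.Away r ⊗[R] (A ⧸ J)) by
    choose r hr hc using hloc
    refine ⟨Set.range r, ?_, by rintro _ ⟨p, rfl⟩; exact hc p⟩
    by_contra hne
    obtain ⟨m, hm, hle⟩ := Ideal.exists_le_maximal _ hne
    exact hr ⟨m, hm.isPrime⟩ (hle (Ideal.subset_span (Set.mem_range_self _)))
  intro p
  obtain ⟨x₀, hx₀⟩ := hquot.surjective p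
  let W : Set (PrimeSpectrum R) := {q | ∀ x, π x = q → Nonempty (Q x₀ ≃* Q x)}
  have hpW : p ∈ W := fun x hx => heq x₀ x (hx₀.trans hx.symm)
  have hW : IsOpen W := by
    rw [← hquot.isOpen_preimage, isOpen_sigma_iff]
    intro i
    rw [isOpen_iff_forall_mem_open]
    intro y hy
    refine ⟨PrimeSpectrum.basicOpen (s ⟨i, y⟩), fun y' hy' x hx => ?_, PrimeSpectrum.isOpen_basicOpen, hs ⟨i, y⟩⟩
    obtain ⟨e⟩ := hy ⟨i, y⟩ rfl
    obtain ⟨e'⟩ := hnear ⟨i, y⟩ y' hy'
    obtain ⟨e''⟩ := heq ⟨i, y'⟩ x hx.symm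
    exact ⟨(e.trans e').trans e''⟩
  obtain ⟨_, ⟨r, rfl⟩, hpr, hrW⟩ := PrimeSpectrum.isTopologicalBasis_basic_opens.exists_subset_of_mem_open hpW hW
  refine ⟨r, hpr, ?_⟩
  -- finitely many charts cover the preimage of `D(r)`
  have hcomp : IsCompact (π ⁻¹' (PrimeSpectrum.basicOpen r : Set (PrimeSpectrum R))) := by
    have : π ⁻¹' (PrimeSpectrum.basicOpen r : Set (PrimeSpectrum R)) =
        PrimeSpectrum.sigmaToPiHomeo T ⁻¹' (PrimeSpectrum.basicOpen (algebraMap R (∀ i, T i) r) : Set _) := by
      rw [hπ, Set.preimage_comp]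
      rfl
    rw [this, Homeomorph.isCompact_preimage]
    exact PrimeSpectrum.isCompact_basicOpen _
  let U : (Σ i, PrimeSpectrum (T i)) → Set (Σ i, PrimeSpectrum (T i)) :=
    fun x => Sigma.mk x.1 '' (PrimeSpectrum.basicOpen (s x) : Set (PrimeSpectrum (T x.1)))
  obtain ⟨F, hFsub, hFfin, hF⟩ := hcomp.elim_finite_subcover_image (b := π ⁻¹' (PrimeSpectrum.basicOpen r : Set (PrimeSpectrum R)))
    (c := U) (fun x _ => isOpenMap_sigmaMk _ PrimeSpectrum.isOpen_basicOpen)
    fun x hx => Set.mem_biUnion hx ⟨x.2, hs x, rfl⟩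
  haveI : Fintype F := hFfin.fintype
  let T' : F → Type u := fun x => Localization.Away (s x.1)
  have hiso : ∀ x : F, Nonempty (Q x₀ ≃* Q x.1) := fun x => hrW (hFsub x.2) x.1 rfl
  obtain ⟨gT, hgT, -⟩ := exists_frame_pi (T := T') (fun x => (g' x.1).comp (hiso x).some.toMonoidHom)
    fun x => isFrame_comp_mulEquiv (hg' x.1) _
  let T₀ := ∀ x, T' x
  let R₁ := Localization.Away r
  haveI : ∀ i, Module.Flat R (T i) := fun i =>
    Module.Flat.of_retract (LinearMap.single R T i) (LinearMap.proj i) (LinearMap.ext fun t => by simp)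
  haveI : ∀ x, Module.Flat R (T' x) := fun x =>
    haveI : Module.Flat (T x.1.1) (T' x) := IsLocalization.flat _ (Submonoid.powers (s x.1))
    Module.Flat.trans R (T x.1.1) (T' x)
  haveI : Module.Flat R T₀ := Module.Flat.of_linearEquiv (DFinsupp.linearEquivFunOnFintype (R := R)).symm
  haveI : Module.FaithfullyFlat R₁ (R₁ ⊗[R] T₀) := by
    refine Module.FaithfullyFlat.of_comap_surjective fun q => ?_
    obtain ⟨w, hw⟩ := hquot.surjective (PrimeSpectrum.comap (algebraMap R R₁) q)
    have hwr : π w ∈ (PrimeSpectrum.basicOpen r : Set (PrimeSpectrum R)) := by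
      rw [hw, ← PrimeSpectrum.localization_away_comap_range R₁ r]
      exact Set.mem_range_self q
    obtain ⟨x, hx, y, hy, rfl⟩ := Set.mem_iUnion₂.mp (hF hwr)
    obtain ⟨y', hy'⟩ := hlift _ y _ hy
    obtain ⟨v, hv⟩ : ∃ v : PrimeSpectrum T₀, PrimeSpectrum.comap (algebraMap R T₀) v =
        PrimeSpectrum.comap (algebraMap R R₁) q :=
      ⟨PrimeSpectrum.comap (Pi.evalRingHom T' ⟨x, hx⟩) y', by
        rw [← PrimeSpectrum.comap_comp_apply, ← hw, ← hy']
        exact congrArg (fun ψ => PrimeSpectrum.comap ψ y') (RingHom.ext fun _ => rfl)⟩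
    let κ := v.asIdeal.ResidueField
    have hvr : r ∉ (PrimeSpectrum.comap (algebraMap R T₀) v).asIdeal := by
      rw [hv]
      exact hw ▸ hwr
    have hunit : IsUnit (Algebra.ofId R κ r) := isUnit_iff_ne_zero.mpr fun h0 => hvr (by
      change algebraMap R T₀ r ∈ v.asIdeal
      rw [← Ideal.algebraMap_residueField_eq_zero, ← IsScalarTower.algebraMap_apply]
      exact h0)
    let l : R₁ →ₐ[R] κ := IsLocalization.liftAlgHom (M := Submonoid.powers r) (f := Algebra.ofId R κ)
      fun y => by
        obtain ⟨_, n, rfl⟩ := y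
        exact (map_pow (Algebra.ofId R κ) r n).symm ▸ hunit.pow n
    let ψ : R₁ ⊗[R] T₀ →ₐ[R] κ := Algebra.TensorProduct.lift l (IsScalarTower.toAlgHom R T₀ κ) fun _ _ => Commute.all _ _
    refine ⟨⟨RingHom.ker ψ.toRingHom, RingHom.ker_isPrime _⟩, ?_⟩
    apply PrimeSpectrum.localization_comap_injective R₁ (Submonoid.powers r)
    rw [← hv]
    refine PrimeSpectrum.ext (Ideal.ext fun c => ?_)
    change ψ.toRingHom (algebraMap R₁ (R₁ ⊗[R] T₀) (algebraMap R R₁ c)) = 0 ↔ algebraMap R T₀ c ∈ v.asIdeal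
    rw [← IsScalarTower.algebraMap_apply R R₁, AlgHom.toRingHom_eq_coe, RingHom.coe_coe, ψ.commutes,
      IsScalarTower.algebraMap_apply R T₀ κ, Ideal.algebraMap_residueField_eq_zero]
  exact ⟨R₁ ⊗[R] T₀, inferInstance, inferInstance, inferInstance, Q x₀, inferInstance,
    ⟨((hgT.map (Algebra.TensorProduct.includeRight : T₀ →ₐ[R] R₁ ⊗[R] T₀)).push
      (GrothLib.Hopf.cancelBaseChange R R₁ (R₁ ⊗[R] T₀) (A ⧸ J)).symm).equiv.symm⟩⟩

end GrothLib.MultKernelGenlead
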